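import Cfsg.Agent.H953.O8R.Step

/-!
# S3691, row `PΩ⁺₈(q)`: SPIN: three orthogonal rotation planes (helper953)
-/

set_option autoImplicit false
set_option linter.unusedSectionVars false

namespace Cfsg.Agent.H953.O8R

open Module QuadraticMap
open scoped commutatorElement
open Cfsg.Agent.H951 (fx cm mem_fx mem_cm isCompl_fx_cm)

variable {F V Γ T G : Type} [Field F] [Fintype F] [AddCommGroup V] [Module F V] [FiniteDimensional F V] [Group Γ] [Group T] [Group G]
  {Q : QuadraticForm F V} {ρ : Γ →* Module.End F V} {π : Γ →* T} {f : G →* T} {n : ℕ} {t : Fin 3 → G}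
  {L : Fin 3 → Subgroup G} {A B : Subgroup G}

theorem mem_cm_smul {e : F} (he : e = 1 ∨ e = -1) {x : Module.End F V} {v : V} :
    v ∈ cm (e • x) ↔ ∃ w, x w - e • w = v := by
  rw [mem_cm]
  constructor
  · rintro ⟨w, rfl⟩
    refine ⟨e • w, ?_⟩
    rw [map_smul, smul_smul, ee he, one_smul, LinearMap.smul_apply]
  · rintro ⟨w, rfl⟩
    refine ⟨e • w, ?_⟩
    rw [LinearMap.smul_apply, map_smul, smul_smul, ee he, one_smul]

theorem polar_perp {x : Module.End F V} (hx : ∀ v, Q (x v) = Q v) {u v : V} (hu : u ∈ fx x) (hv : v ∈ cm x) : polar Q u v = 0 := by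
  obtain ⟨w, rfl⟩ := mem_cm.1 hv
  have h1 : polar Q (x u) (x w) = polar Q u w := by
    rw [polar, polar, ← map_add, hx, hx, hx]
  rw [mem_fx.1 hu] at h1
  rw [polar_sub_right, h1, sub_self]

/-- the rotation system -/
theorem exists_rs (hS : Sys Q ρ π) (hf : Function.Injective f) (hD : Rot G n t L A B)
    (hn : n * Nat.gcd 2 (Fintype.card F - 1) = Fintype.card F + 1) {g : Γ} (hg : π g = f (t 0)) {e : F} (he : e = 1 ∨ e = -1)
    (htriv : ∀ x ∈ hat π ((L 0).map f), ∀ v, ρ x (ρ g v - e • v) = ρ g v - e • v) :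
    ∃ (r : Fin 3 → Module.End F V) (c : F), RS Q ρ π f t L r c := by
  -- the lifts
  have hH : ∀ i, ∃ H : Γ, π (H * g * H⁻¹) = f (t i) ∧ hat π ((L i).map f) = cj H (hat π ((L 0).map f)) := by
    intro i
    obtain ⟨y, hy1, hy2⟩ := hD.conj i
    obtain ⟨H, hH⟩ := hS.surj (f y)
    refine ⟨H, ?_, ?_⟩
    · rw [map_mul, map_mul, map_inv, hH, hg, hy1, map_mul, map_mul, map_inv]
    · rw [← hat_cj, hH]
      congr 1
      rw [hy2]
      ext z
      constructor
      · rintro ⟨_, ⟨z, hz, rfl⟩, rfl⟩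
        refine ⟨f z, ⟨z, hz, rfl⟩, ?_⟩
        show f y * f z * (f y)⁻¹ = f (y * z * y⁻¹)
        rw [map_mul, map_mul, map_inv]
      · rintro ⟨_, ⟨z, hz, rfl⟩, rfl⟩
        refine ⟨_, ⟨z, hz, rfl⟩, ?_⟩
        show f (y * z * y⁻¹) = f y * f z * (f y)⁻¹
        rw [map_mul, map_mul, map_inv]
  choose H hH1 hH2 using hH
  have hN1 : ((Fintype.card F + 1 : ℕ) : F) ≠ 0 := by
    rw [Nat.cast_add, FiniteField.cast_card_eq_zero, zero_add, Nat.cast_one]
    exact one_ne_zero
  have hiso : ∀ i v, Q ((e • ρ (H i * g * (H i)⁻¹)) v) = Q v := by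
    intro i v
    rw [LinearMap.smul_apply, QuadraticMap.map_smul, ee he, one_smul, hS.iso]
  have hpow : ∀ i, (e • ρ (H i * g * (H i)⁻¹)) ^ (Fintype.card F + 1) = 1 := by
    intro i
    have h1 := hS.pow_lift hn (hH1 i) (hD.pow i)
    rw [smul_pow, ← map_pow, h1, map_one, pow_succ, FiniteField.pow_card, ee he, one_smul]
  have hcompl : ∀ i, IsCompl (fx (e • ρ (H i * g * (H i)⁻¹))) (cm (e • ρ (H i * g * (H i)⁻¹))) := fun i =>
    isCompl_fx_cm hN1 (hpow i)
  -- the plane of `i` is the image of that of `0`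
  have hcm0 : ∀ i v, v ∈ cm (e • ρ (H i * g * (H i)⁻¹)) ↔ ρ (H i)⁻¹ v ∈ cm (e • ρ g) := by
    intro i v
    rw [mem_cm_smul he, mem_cm_smul he]
    constructor
    · rintro ⟨w, rfl⟩
      refine ⟨ρ (H i)⁻¹ w, ?_⟩
      rw [map_sub, map_smul, map_mul, map_mul, Module.End.mul_apply, Module.End.mul_apply, rho_inv_mul]
    · rintro ⟨w, hw⟩
      refine ⟨ρ (H i) w, ?_⟩
      rw [map_mul, map_mul, Module.End.mul_apply, Module.End.mul_apply, rho_inv_mul, ← map_smul, ← map_sub, hw, rho_mul_inv]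
  have hcmmap : ∀ i, cm (e • ρ (H i * g * (H i)⁻¹)) = (cm (e • ρ g)).map (ρ (H i)) := by
    intro i
    ext v
    rw [hcm0]
    constructor
    · intro h
      exact ⟨_, h, rho_mul_inv ρ _ _⟩
    · rintro ⟨w, hw, rfl⟩
      rw [rho_inv_mul]
      exact hw
  have hinjH : ∀ i, Function.Injective (ρ (H i)) := fun i a b hab => by
    rw [← rho_inv_mul ρ (H i) a, hab, rho_inv_mul]
  have hdimeq : ∀ i, finrank F (cm (e • ρ (H i * g * (H i)⁻¹))) = finrank F (cm (e • ρ g)) := by
    intro i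
    rw [hcmmap]
    exact (Submodule.equivMapOfInjective (ρ (H i)) (hinjH i) _).finrank_eq.symm
  -- lifts
  have hlift : ∀ i (h : Γ), π h = f (t i) → ∃ e' : F, (e' = 1 ∨ e' = -1) ∧ ∀ v, ρ h v = e' • (e • ρ (H i * g * (H i)⁻¹)) v := by
    intro i h hh
    obtain ⟨e', he', hv⟩ := hS.lift (x := h) (y := H i * g * (H i)⁻¹) (by rw [hh, hH1])
    refine ⟨e' * e, ?_, fun v => ?_⟩
    · rcases he' with rfl | rfl
      · rw [one_mul]; exact he
      · rcases he with rfl | rfl
        · right; ring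
        · left; ring
    · rw [hv, LinearMap.smul_apply, smul_smul, mul_assoc e' e e, ee he, mul_one]
  have htriv' : ∀ i, ∀ x ∈ hat π ((L i).map f), ∀ v ∈ cm (e • ρ (H i * g * (H i)⁻¹)), ρ x v = v := by
    intro i x hx v hv
    rw [hH2] at hx
    obtain ⟨y, hy, rfl⟩ := hx
    show ρ (H i * y * (H i)⁻¹) v = v
    obtain ⟨w, hw⟩ := (mem_cm_smul he).1 ((hcm0 i v).1 hv)
    rw [map_mul, map_mul, Module.End.mul_apply, Module.End.mul_apply, ← hw, htriv y hy, hw, rho_mul_inv]
  have hsq : ∀ i, ¬ ∀ v, (e • ρ (H i * g * (H i)⁻¹)) ((e • ρ (H i * g * (H i)⁻¹)) v) = v := by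
    intro i h
    have h1 : π ((H i * g * (H i)⁻¹) * (H i * g * (H i)⁻¹)) = 1 := by
      refine (hS.ker _).2 ⟨1, fun v => ?_⟩
      have h2 := h v
      rw [LinearMap.smul_apply, LinearMap.smul_apply, map_smul, smul_smul, ee he, one_smul] at h2
      rw [map_mul ρ, Module.End.mul_apply, h2, one_smul]
    rw [map_mul, hH1, ← map_mul, ← pow_two] at h1
    exact hD.sq i (hf (by rw [h1, map_one]))
  have hfix : ∀ i j, i ≠ j → ∀ u ∈ cm (e • ρ (H i * g * (H i)⁻¹)), (e • ρ (H j * g * (H j)⁻¹)) u = u := by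
    intro i j hij u hu
    obtain ⟨x, hx, hxe⟩ := exists_hat hS.surj (perf_map (f := f) (hD.perf i)) (Subgroup.mem_map_of_mem f (hD.mem i j hij))
    obtain ⟨e', he', hv⟩ := hlift j x hxe
    have h1 : ∀ w ∈ cm (e • ρ (H i * g * (H i)⁻¹)), (e • ρ (H j * g * (H j)⁻¹)) w = e' • w := by
      intro w hw
      have h2 := hv w
      rw [htriv' i x hx w hw] at h2
      conv_rhs => rw [h2]
      rw [smul_smul, ee he', one_smul]
    rcases he' with rfl | rfl
    · rw [h1 u hu, one_smul]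
    · by_cases h2 : (2 : F) = 0
      · rw [h1 u hu]
        have h3 : (-1 : F) = 1 := by
          have : (1 : F) + 1 = 0 := by rw [one_add_one_eq_two, h2]
          exact neg_eq_of_add_eq_zero_left this
        rw [h3, one_smul]
      · exfalso
        have hle : cm (e • ρ (H i * g * (H i)⁻¹)) ≤ cm (e • ρ (H j * g * (H j)⁻¹)) := by
          intro w hw
          rw [mem_cm]
          refine ⟨-(2 : F)⁻¹ • w, ?_⟩
          rw [map_smul, h1 w hw, smul_smul, ← sub_smul]
          have h4 : -(2 : F)⁻¹ * -1 - -(2 : F)⁻¹ = 1 := by field_simp; norm_num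
          rw [h4, one_smul]
        have heq := Submodule.eq_of_le_of_finrank_eq hle (by rw [hdimeq, hdimeq])
        apply hsq j
        intro v
        have hv' : v ∈ fx (e • ρ (H j * g * (H j)⁻¹)) ⊔ cm (e • ρ (H j * g * (H j)⁻¹)) := by
          rw [(hcompl j).sup_eq_top]; trivial
        obtain ⟨v1, hv1, v2, hv2, rfl⟩ := Submodule.mem_sup.1 hv'
        rw [← heq] at hv2
        rw [map_add, map_add, mem_fx.1 hv1, mem_fx.1 hv1, h1 v2 hv2, map_smul, h1 v2 hv2, smul_smul, neg_mul_neg, one_mul, one_smul]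
  -- dimension
  have hd3 : 3 * finrank F (cm (e • ρ g)) ≤ 8 := by
    have hb := fun i => (hcompl i).inf_eq_bot
    have hle : ∀ i j, i ≠ j → cm (e • ρ (H i * g * (H i)⁻¹)) ≤ fx (e • ρ (H j * g * (H j)⁻¹)) := fun i j hij u hu =>
      mem_fx.2 (hfix i j hij u hu)
    have h1 := Submodule.finrank_sup_add_finrank_inf_eq (cm (e • ρ (H 1 * g * (H 1)⁻¹))) (cm (e • ρ (H 2 * g * (H 2)⁻¹)))
    have h2 : cm (e • ρ (H 1 * g * (H 1)⁻¹)) ⊓ cm (e • ρ (H 2 * g * (H 2)⁻¹)) = ⊥ := by
      rw [eq_bot_iff, ← hb 2]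
      exact inf_le_inf_right _ (hle 1 2 (by decide))
    have h3 := Submodule.finrank_sup_add_finrank_inf_eq (cm (e • ρ (H 1 * g * (H 1)⁻¹)) ⊔ cm (e • ρ (H 2 * g * (H 2)⁻¹)))
      (cm (e • ρ (H 0 * g * (H 0)⁻¹)))
    have h4 : (cm (e • ρ (H 1 * g * (H 1)⁻¹)) ⊔ cm (e • ρ (H 2 * g * (H 2)⁻¹))) ⊓ cm (e • ρ (H 0 * g * (H 0)⁻¹)) = ⊥ := by
      rw [eq_bot_iff, ← hb 0]
      exact inf_le_inf_right _ (sup_le (hle 1 0 (by decide)) (hle 2 0 (by decide)))
    have h5 := Submodule.finrank_le (cm (e • ρ (H 1 * g * (H 1)⁻¹)) ⊔ cm (e • ρ (H 2 * g * (H 2)⁻¹)) ⊔ cm (e • ρ (H 0 * g * (H 0)⁻¹)))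
    rw [h2, finrank_bot, hdimeq, hdimeq] at h1
    rw [h4, finrank_bot, hdimeq] at h3
    rw [hS.dim] at h5
    omega
  -- the quadratic equation
  have hsqg : ¬ ∀ v, ρ g (ρ g v) = v := by
    intro h
    have h1 : π (g * g) = 1 := (hS.ker _).2 ⟨1, fun v => by rw [map_mul, Module.End.mul_apply, h, one_smul]⟩
    rw [map_mul, hg, ← map_mul, ← pow_two] at h1
    exact hD.sq 0 (hf (by rw [h1, map_one]))
  have hgN := hS.pow_lift hn hg (hD.pow 0)
  have hsup : ⨆ c : F, (ρ g + ρ g⁻¹).eigenspace c = ⊤ := by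
    refine iSup_eig _ (add_inv_pow ?_ ?_ ?_)
    · rw [← map_mul, mul_inv_cancel, map_one]
    · rw [← map_mul, inv_mul_cancel, map_one]
    · rw [← map_pow, hgN, map_one]
  obtain ⟨c, hirr, hcb⟩ : ∃ c : F, (∀ x : F, x * x - c * x + 1 ≠ 0) ∧ (ρ g + ρ g⁻¹).eigenspace c ≠ ⊥ := by
    by_contra hcon
    push Not at hcon
    apply hsqg
    intro v
    have hv : v ∈ ⨆ c : F, (ρ g + ρ g⁻¹).eigenspace c := by rw [hsup]; trivial
    induction hv using Submodule.iSup_induction' with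
    | mem c v hv =>
      by_cases hc : ∀ x : F, x * x - c * x + 1 ≠ 0
      · rw [hcon c hc, Submodule.mem_bot] at hv
        rw [hv, map_zero, map_zero]
      · push Not at hc
        obtain ⟨m, hm⟩ := hc
        by_cases hb : (ρ g + ρ g⁻¹).eigenspace c = ⊥
        · rw [hb, Submodule.mem_bot] at hv
          rw [hv, map_zero, map_zero]
        · obtain ⟨e', he', hv'⟩ := eig_red hgN hm hb
          rw [hv' v hv, map_smul, hv' v hv, smul_smul, ee he', one_smul]
    | zero => rw [map_zero, map_zero]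
    | add u v _ _ hu hv => rw [map_add, map_add, hu, hv]
  have hle : (ρ g + ρ g⁻¹).eigenspace c ≤ cm (e • ρ g) := by
    intro v hv
    have hne : e * c - 2 ≠ 0 := by
      intro h
      apply hirr e
      rw [ee he]
      linear_combination -h
    have h1 : (e * c - 2) • v ∈ cm (e • ρ g) := by
      rw [mem_cm_smul he]
      refine ⟨ρ g v - (c - e) • v, ?_⟩
      rw [map_sub, map_smul, eig_sq hv]
      have hee := ee he
      rw [smul_sub e, smul_smul]
      have h2 : e * (c - e) = e * c - 1 := by rw [mul_sub, hee]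
      rw [h2]
      module
    have h2 := Submodule.smul_mem _ (e * c - 2)⁻¹ h1
    rwa [smul_smul, inv_mul_cancel₀ hne, one_smul] at h2
  have h2le : 2 ≤ finrank F ((ρ g + ρ g⁻¹).eigenspace c) := by
    obtain ⟨v, hv, hv0⟩ := (Submodule.ne_bot_iff _).1 hcb
    have hli : LinearIndependent F ![v, ρ g v] := by
      rw [LinearIndependent.pair_iff' hv0]
      intro a ha
      apply hirr a
      have h1 := eig_sq hv
      rw [← ha, map_smul, ← ha, smul_smul, smul_smul] at h1
      have h2 : (a * a - c * a + 1) • v = 0 := by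
        rw [add_smul, sub_smul, h1, one_smul]
        abel
      exact (smul_eq_zero.1 h2).resolve_right hv0
    have h3 := finrank_span_eq_card hli
    rw [Fintype.card_fin] at h3
    refine le_trans (le_of_eq h3.symm) (Submodule.finrank_mono (Submodule.span_le.2 ?_))
    rintro _ ⟨i, rfl⟩
    fin_cases i
    · exact hv
    · exact eig_inv rfl hv
  have hdle := Submodule.finrank_mono hle
  have hd : finrank F (cm (e • ρ g)) = 2 := by omega
  have heq : (ρ g + ρ g⁻¹).eigenspace c = cm (e • ρ g) := Submodule.eq_of_le_of_finrank_eq hle (by omega)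
  refine ⟨fun i => e • ρ (H i * g * (H i)⁻¹), e * c, hiso, hlift, fun i => (hdimeq i).trans hd, ?_, ?_, htriv', fun i => (hcompl i).symm,
    ?_⟩
  · intro x hx
    apply hirr (e * x)
    have hee := ee he
    linear_combination hx + (x * x) * hee
  · intro i v hv
    have h1 : ρ (H i)⁻¹ v ∈ (ρ g + ρ g⁻¹).eigenspace c := by rw [heq]; exact (hcm0 i v).1 hv
    have h2 := eig_sq h1
    have h3 : ρ (H i * g * (H i)⁻¹) (ρ (H i * g * (H i)⁻¹) v) = c • ρ (H i * g * (H i)⁻¹) v - v := by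
      simp only [map_mul, Module.End.mul_apply, rho_inv_mul]
      rw [h2, map_sub, map_smul, rho_mul_inv]
    show (e • ρ (H i * g * (H i)⁻¹)) ((e • ρ (H i * g * (H i)⁻¹)) v) = (e * c) • (e • ρ (H i * g * (H i)⁻¹)) v - v
    rw [LinearMap.smul_apply, LinearMap.smul_apply, map_smul, smul_smul, ee he, one_smul, h3, smul_smul]
    have hee := ee he
    have h4 : e * c * e = c := by linear_combination c * hee
    rw [h4]
  · intro i j hij u hu v hv
    exact polar_perp (hiso j) (mem_fx.2 (hfix i j hij u hu)) hv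

end Cfsg.Agent.H953.O8R
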