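import Cfsg.Agent.H823.O8S.Res
import Cfsg.Agent.H708.Rg.TriJ
import Cfsg.Agent.H953.O8R.RSys

/-!
# S3691, row `PΩ⁺₈(q)`: SPIN: the instance `Ω⁺₈(q)` and the triality step (helper953)
-/

set_option autoImplicit false
set_option linter.unusedSectionVars false

namespace Cfsg.Agent.H953.O8R

open Module QuadraticMap Cfsg Cfsg.Geo Cfsg.Agent.LieClassical.OrthCore Cfsg.Agent.H955 Cfsg.Agent.H954.TSing
open Cfsg.Agent.LieClassical.OmegaReindex
open Cfsg.Agent.H951 (fx cm Inv)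
open Cfsg.Agent.H884.El
open Cfsg.Agent.H708.O8 (I8 T8 RB)
open Cfsg.Agent.H823.O8S Cfsg.Agent.H823.O8R
open scoped MatrixGroups Matrix commutatorElement

variable {F : Type} [Field F] [Fintype F]

/-- the natural representation of `Ω⁺₈(q)` -/
def rho8 (F : Type) [Field F] [Fintype F] : Omega F (quadFormPlus 4 F) →* Module.End F (I8 → F) where
  toFun g := H884.El.lin (gl8 F g)
  map_one' := by rw [map_one, lin_one]
  map_mul' g h := LinearMap.ext fun v => by rw [map_mul, lin_mul_apply, Module.End.mul_apply]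

theorem rho8_apply (g : Omega F (quadFormPlus 4 F)) (v : I8 → F) : rho8 F g v = H884.El.lin (gl8 F g) v := rfl

theorem gl8_injective : Function.Injective (gl8 F) := fun g h hgh => Subtype.ext (Subtype.ext hgh)

theorem lin_injective' {g h : GL I8 F} (hgh : H884.El.lin g = H884.El.lin h) : g = h := by
  apply Units.ext
  exact Matrix.toLin'.injective hgh

theorem sys8 : Sys (quadPlus 4 F) (rho8 F) (mk8 F) where
  iso g v := by
    rw [coe_quadPlus]
    exact iso_of_omega (g := gl8 F g) ⟨_, g.2, rfl⟩ v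
  inj g h hgh := gl8_injective (lin_injective' hgh)
  surj := QuotientGroup.mk'_surjective _
  ker g := by
    refine ⟨mk8_eq_one, fun ⟨e, he⟩ => ?_⟩
    refine (QuotientGroup.eq_one_iff g).2 ?_
    rw [Subgroup.mem_center_iff]
    intro h
    apply gl8_injective
    apply lin_injective'
    refine LinearMap.ext fun v => ?_
    rw [map_mul, map_mul, lin_mul_apply, lin_mul_apply]
    have h1 : ∀ v, H884.El.lin (gl8 F g) v = e • v := he
    rw [h1, h1, map_smul]
  nondeg v hv := by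
    rw [coe_quadPlus] at hv
    exact nondeg8 hv
  dim := finrank_I8

variable {G : Type} [Group G] {f : G →* T8 F} {n : ℕ} {t : Fin 3 → G} {L : Fin 3 → Subgroup G} {A B : Subgroup G} {p a : ℕ}

/-- **the triality step** -/
theorem step_tri (hF : Nat.card F = p ^ a) (hf : Function.Injective f) (hD : Rot G n t L A B)
    (hn : n * Nat.gcd 2 (Fintype.card F - 1) = Fintype.card F + 1) :
    ∃ (α : MulAut (T8 F)) (r : Fin 3 → Module.End F (I8 → F)) (c : F),
      RS (quadPlus 4 F) (rho8 F) (mk8 F) (α.toMonoidHom.comp f) t L r c := by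
  have hS := sys8 (F := F)
  obtain ⟨g, hg⟩ := hS.surj (f (t 0))
  rcases hD.dich hS hf hn hg with ⟨c, hirr, hz⟩ | ⟨e, he, htriv⟩
  swap
  · obtain ⟨r, c, h⟩ := exists_rs hS hf hD hn hg he htriv
    exact ⟨1, r, c, h⟩
  -- the field
  have hFld : Fld (rho8 F g) c 1 := by
    refine ⟨LinearMap.ext fun v => ?_, fun z => hirr z, fun v => ?_⟩
    · rw [Module.End.mul_apply, hz, LinearMap.sub_apply, LinearMap.smul_apply, one_smul, Module.End.one_apply]
    · rw [one_mul]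
      have := hS.iso g v
      rwa [coe_quadPlus] at this
  obtain ⟨R0, hR0⟩ : ∃ R0 : Subgroup (T8 F), R0 = (L 0 ⊔ Subgroup.zpowers (t 0)).map f := ⟨_, rfl⟩
  have hcent : R0 ≤ (Subgroup.centralizer {g}).map (mk8 F) := by
    rw [hR0, Subgroup.map_sup]
    refine sup_le ?_ ?_
    · intro y hy
      obtain ⟨x, hx, hxe⟩ := exists_hat hS.surj (perf_map (f := f) (hD.perf 0)) hy
      refine ⟨x, ?_, hxe⟩
      have h1 := hD.hat_cent hS hg x hx
      rw [SetLike.mem_coe, Subgroup.mem_centralizer_singleton_iff]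
      first | exact h1 | exact h1.symm
    · rw [MonoidHom.map_zpowers, Subgroup.zpowers_le]
      refine ⟨g, ?_, hg⟩
      rw [SetLike.mem_coe, Subgroup.mem_centralizer_singleton_iff]
  have hJ : FixJ R0 := by
    refine ⟨rho8 F g, c, 1, hFld, fun x hx => ?_⟩
    obtain ⟨y, rfl, hy⟩ := exists_lift hx
    obtain ⟨y', hy', he⟩ := hcent hy
    rw [SetLike.mem_coe, Subgroup.mem_centralizer_singleton_iff] at hy'
    have h1 : g * (y'⁻¹ * y) = (y'⁻¹ * y) * g := hS.central _ (by rw [map_mul, map_inv, he, inv_mul_cancel]) g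
    have h2 : y * g = g * y := by
      have h3 : y = y' * (y'⁻¹ * y) := by group
      have h4 : y' * g = g * y' := by first | exact hy' | exact hy'.symm
      rw [h3, mul_assoc, ← h1, ← mul_assoc, h4, mul_assoc]
    rw [mem_NJ]
    left
    intro v
    show rho8 F y (rho8 F g v) = rho8 F g (rho8 F y v)
    rw [← Module.End.mul_apply, ← Module.End.mul_apply, ← map_mul, ← map_mul, h2]
  obtain ⟨α, W, hW, -, hWR⟩ := H708.Rg.tri_J hF hJ
  have hf' : Function.Injective (α.toMonoidHom.comp f) := fun x y hxy => hf (α.injective hxy)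
  obtain ⟨g', hg'⟩ := hS.surj ((α.toMonoidHom.comp f) (t 0))
  have hmem : ∀ y : Omega F (quadFormPlus 4 F), mk8 F y ∈ R0.map α.toMonoidHom → ∀ w ∈ W, rho8 F y w ∈ W := by
    intro y hy w hw
    have h1 := hWR (mem_pre.2 hy)
    rw [mem_SW] at h1
    rw [← h1]
    exact ⟨w, hw, rfl⟩
  rcases hD.dich hS hf' hn hg' with ⟨c', hirr', hz'⟩ | ⟨e, he, htriv⟩
  · exfalso
    refine hD.kill hS hf' hg' hirr' hz' hW (hmem g' ?_) (fun x hx => hmem x ?_)
    · rw [hg', hR0]
      exact ⟨_, ⟨t 0, Subgroup.mem_sup_right (Subgroup.mem_zpowers _), rfl⟩, rfl⟩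
    · obtain ⟨y, hy, hye⟩ := mem_of_hat hx
      rw [← hye, hR0]
      exact ⟨_, ⟨y, Subgroup.mem_sup_left hy, rfl⟩, rfl⟩
  · obtain ⟨r, c, h⟩ := exists_rs hS hf' hD hn hg' he htriv
    exact ⟨α, r, c, h⟩

/-- the normaliser of `S` fixes the fixed point of `S` -/
theorem fixV_of {R : Subgroup (T8 F)} (S : Subgroup R) [hN : S.Normal] (i : G ≃* S) (α : MulAut (T8 F)) {w : I8 → F}
    (hw : quadPlus 4 F w ≠ 0)
    (hfix : ∀ v, (∀ x ∈ hat (mk8 F) ((⊤ : Subgroup G).map (α.toMonoidHom.comp (R.subtype.comp (S.subtype.comp i.toMonoidHom)))),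
      rho8 F x v = v) ↔ v ∈ Submodule.span F {w}) : FixV (R.map α.toMonoidHom) := by
  refine ⟨w, by rw [coe_quadPlus] at hw; exact hw, le_SW fun g hg v hv => ?_⟩
  obtain ⟨y, rfl, hy⟩ := exists_lift hg
  obtain ⟨M, hM⟩ : ∃ M, M = (⊤ : Subgroup G).map (α.toMonoidHom.comp (R.subtype.comp (S.subtype.comp i.toMonoidHom))) := ⟨_, rfl⟩
  rw [← hM] at hfix
  have hmem : ∀ z, z ∈ M ↔ ∃ s : R, s ∈ S ∧ α (s : T8 F) = z := by
    intro z
    rw [hM]
    constructor
    · rintro ⟨x, -, rfl⟩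
      exact ⟨(i x : S), (i x).2, rfl⟩
    · rintro ⟨s, hs, rfl⟩
      refine ⟨i.symm ⟨s, hs⟩, trivial, ?_⟩
      show α ((i (i.symm ⟨s, hs⟩) : S) : T8 F) = α s
      rw [MulEquiv.apply_symm_apply]
  obtain ⟨ρ0, hρ0, hρe⟩ := hy
  have hcj : cj (mk8 F y) M = M := by
    apply le_antisymm
    · rintro _ ⟨z, hz, rfl⟩
      obtain ⟨s, hs, rfl⟩ := (hmem z).1 hz
      refine (hmem _).2 ⟨⟨ρ0, hρ0⟩ * s * ⟨ρ0, hρ0⟩⁻¹, hN.conj_mem s hs _, ?_⟩
      show α (ρ0 * s * ρ0⁻¹) = mk8 F y * α s * (mk8 F y)⁻¹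
      rw [map_mul, map_mul, map_inv, ← hρe]
      rfl
    · intro z hz
      obtain ⟨s, hs, rfl⟩ := (hmem z).1 hz
      refine ⟨α ((⟨ρ0, hρ0⟩⁻¹ * s * ⟨ρ0, hρ0⟩ : R) : T8 F), (hmem _).2 ⟨_, ?_, rfl⟩, ?_⟩
      · have := hN.conj_mem s hs (⟨ρ0, hρ0⟩⁻¹)
        rwa [inv_inv] at this
      · show mk8 F y * α (ρ0⁻¹ * s * ρ0) * (mk8 F y)⁻¹ = α s
        have h1 : mk8 F y = α ρ0 := hρe.symm
        rw [h1, ← map_inv, ← map_mul, ← map_mul]
        congr 1
        group
  refine (hfix _).1 fun x hx => ?_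
  have h1 : y⁻¹ * x * y ∈ hat (mk8 F) M := by
    rw [← hcj, hat_cj] at hx
    obtain ⟨z, hz, rfl⟩ := hx
    have h2 : y⁻¹ * (y * z * y⁻¹) * y = z := by group
    show y⁻¹ * (y * z * y⁻¹) * y ∈ hat (mk8 F) M
    rw [h2]
    exact hz
  have h3 := (hfix v).2 hv _ h1
  show rho8 F x (rho8 F y v) = rho8 F y v
  rw [map_mul, map_mul, Module.End.mul_apply, Module.End.mul_apply] at h3
  have h4 := congrArg (rho8 F y) h3
  rwa [rho_mul_inv] at h4

end Cfsg.Agent.H953.O8R
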