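import Cfsg.Agent.H823.O8R.Over
import Cfsg.Agent.H953.O8R.Spin

/-!
# S3691, row `PΩ⁺₈(q)`: SPIN in the form of the row (helper953)
-/

set_option autoImplicit false
set_option linter.unusedSectionVars false

namespace Cfsg.Agent.H953.O8R

open Module QuadraticMap Cfsg Cfsg.Geo
open Cfsg.Agent.H708.O8 (I8 T8 RB)
open Cfsg.Agent.H884.El Cfsg.Agent.H915.LD
open Cfsg.Agent.H823.O8S Cfsg.Agent.H823.O8R
open scoped MatrixGroups Matrix

variable {F : Type} [Field F] [Fintype F] {p a : ℕ}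

/-- the field `spin` of `Pc` -/
theorem spin_six (hp : p.Prime) (h16 : 16 ≤ p ^ a) (hF : Nat.card F = p ^ a) : ∀ {R : Subgroup (T8 F)} (_ : R ≠ ⊤)
    (S : Subgroup R) [S.Normal] (_ : IsSimpleGroup S) (_ : Subgroup.centralizer (S : Set R) = ⊥) {P : Subgroup (GL I8 F)}
    (_ : IsResidualCore (pre (quadFormPlus 4 F) R) P) (_ : S ≃* Soc P) (_ : Sp6 p a S),
    ∃ α : MulAut (T8 F), FixV (R.map α.toMonoidHom) := by
  intro R _ S _ _ _ P _ _ hK
  rcases hK with ⟨K, i1, i2, hK, ⟨i⟩⟩ | ⟨hp2, K, i1, i2, hK, ⟨i⟩⟩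
  · exact spin_sp hF h16 S hK i
  · exact spin_om hF hp hp2 h16 S hK i

end Cfsg.Agent.H953.O8R
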